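import Groth.Agent.RPSM.PushColim
import Groth.Agent.KFlatLib.Scheme.PushCoprod
import Groth.Agent.SiteBase.ModColim
import Groth.Prelude.Def_RelSpec2

/-!
Direct images as modules over the direct image algebra commute with direct sums and filtered colimits.
-/

universe u

set_option backward.isDefEq.respectTransparency false
set_option backward.isDefEq.respectTransparency.types false

open CategoryTheory CategoryTheory.Limits AlgebraicGeometry TopologicalSpace Opposite
open Groth.Agent.RPSM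
open Groth.Agent.ZClosLib (res res_res res_self app_res germ_res stalkMap stalkMap_germ exists_res_eq_of_germ_eq section_ext res_eq_of_cover exists_glue)

namespace Groth.Agent.AModX

variable {X Y : Scheme.{u}}

section stage

variable {J : Type u} [PartialOrder J] [IsDirected J (· ≤ ·)] [Nonempty J] {D : J ⥤ X.Modules} {c : Cocone D}

/-- A section of a filtered colimit over a quasi-compact quasi-separated open comes from a finite stage. -/
theorem exists_stage_qs (hc : IsColimit c) {V : X.Opens} (hV : IsCompact (V : Set X))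
    (hV₂ : IsQuasiSeparated (V : Set X))
    (s : Γ(c.pt, V)) : ∃ (j : J) (a : Γ(D.obj j, V)), (c.ι.app j).app V a = s := by
  classical
  have key : ∀ x : V, ∃ (j : J) (W : X.Opens) (hW : W ≤ V) (a : Γ(D.obj j, W)), x.1 ∈ W ∧
      IsCompact (W : Set X) ∧ (c.ι.app j).app W a = res c.pt hW s := fun x => by
    obtain ⟨j, y, hy⟩ := stalk_exists_rep hc x.1 (c.pt.presheaf.germ V x.1 x.2 s)
    obtain ⟨U, hxU, a, rfl⟩ := TopCat.Presheaf.germ_exist (D.obj j).presheaf y
    rw [stalkMap_germ] at hy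
    obtain ⟨W₀, h₁, h₂, hx₀, e⟩ := exists_res_eq_of_germ_eq _ hxU x.2 _ _ hy
    obtain ⟨_, ⟨W, hWaff, rfl⟩, hxW, hle⟩ := X.isBasis_affineOpens.exists_subset_of_mem_open (show x.1 ∈ W₀ from hx₀) W₀.2
    refine ⟨j, W, (show W ≤ W₀ from hle).trans h₂, res _ ((show W ≤ W₀ from hle).trans h₁) a, hxW, hWaff.isCompact, ?_⟩
    rw [app_res, ← res_res _ (show W ≤ W₀ from hle) h₁, e]
    exact res_res c.pt _ _ s
  choose j W hW a hxW hWc he using key
  obtain ⟨T, hT⟩ := hV.elim_finite_subcover (fun x : V => (W x : Set X)) (fun x => (W x).2)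
    fun x hx => Set.mem_iUnion.2 ⟨⟨x, hx⟩, hxW ⟨x, hx⟩⟩
  obtain ⟨m, hm⟩ : ∃ m : J, ∀ p : T, j p.1 ≤ m := by
    obtain ⟨m, hm⟩ := Finset.exists_le (T.image j)
    exact ⟨m, fun p => hm _ (Finset.mem_image_of_mem j p.2)⟩
  let b : ∀ p : T, Γ(D.obj m, W p.1) := fun p => (D.map (homOfLE (hm p))).app _ (a p.1)
  have hb : ∀ p, (c.ι.app m).app _ (b p) = res c.pt (hW p.1) s := fun p => by rw [ι_map_app, he]
  have hagree : ∀ pq : T × T, ∃ (n : J) (hn : m ≤ n),
      (D.map (homOfLE hn)).app _ (res _ (inf_le_left : W pq.1.1 ⊓ W pq.2.1 ≤ _) (b pq.1)) =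
        (D.map (homOfLE hn)).app _ (res _ (inf_le_right : W pq.1.1 ⊓ W pq.2.1 ≤ _) (b pq.2)) := fun pq => by
    refine exists_eq_stage hc ?_ _ _ ?_
    · exact hV₂ _ _ (hW pq.1.1) (W pq.1.1).2 (hWc _) (hW pq.2.1) (W pq.2.1).2 (hWc _)
    · rw [app_res, app_res, hb, hb]
      exact (res_res c.pt _ _ s).trans (res_res c.pt _ _ s).symm
  choose n hn hne using hagree
  obtain ⟨M', hM'⟩ := Finset.exists_le (insert m (Finset.univ.image n))
  have hmM : m ≤ M' := hM' m (Finset.mem_insert_self _ _)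
  obtain ⟨t, ht⟩ := exists_glue (D.obj M') (fun p : T => W p.1) (fun p => hW _) (fun x hx => by
      obtain ⟨p, hp, hxp⟩ := Set.mem_iUnion₂.1 (hT hx)
      exact ⟨⟨p, hp⟩, hxp⟩) (fun p => (D.map (homOfLE hmM)).app _ (b p)) fun p q => by
    rw [← app_res (D.map (homOfLE hmM)) (inf_le_left : W p.1 ⊓ W q.1 ≤ _),
      ← app_res (D.map (homOfLE hmM)) (inf_le_right : W p.1 ⊓ W q.1 ≤ _)]
    have hle : n (p, q) ≤ M' := hM' _ (Finset.mem_insert_of_mem (Finset.mem_image_of_mem n (Finset.mem_univ _)))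
    rw [← map_map_app (hn (p, q)) hle _ (res _ inf_le_left (b p)),
      ← map_map_app (hn (p, q)) hle _ (res _ inf_le_right (b q))]
    exact congrArg _ (hne (p, q))
  refine ⟨M', t, res_eq_of_cover c.pt (fun p : T => W p.1) (fun p => hW _) (fun x hx => ?_) _ _ fun p => ?_⟩
  · obtain ⟨p, hp, hxp⟩ := Set.mem_iUnion₂.1 (hT hx)
    exact ⟨⟨p, hp⟩, hxp⟩
  · refine (app_res (c.ι.app M') _ t).symm.trans ((congrArg _ (ht p)).trans ?_)
    rw [ι_map_app, hb]

end stage

/-- Direct image along a quasi-compact quasi-separated morphism commutes with filtered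
colimits. -/
theorem preservesFilteredColimits_pushforward_qs (f : X ⟶ Y) [QuasiCompact f] [QuasiSeparated f] :
    PreservesFilteredColimitsOfSize.{u, u} (Scheme.Modules.pushforward f) := by
  refine ⟨fun I _ _ => ?_⟩
  obtain ⟨α, _, _, _, F, _⟩ := IsFiltered.exists_directed I
  haveI : IsFiltered α := isFiltered_of_directed_le_nonempty α
  suffices h : PreservesColimitsOfShape α (Scheme.Modules.pushforward f) from
    Functor.Final.preservesColimitsOfShape_of_final F _
  refine ⟨fun {D} => ⟨fun {c} hc => ?_⟩⟩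
  let P := Scheme.Modules.pushforward f
  let hd := colimit.isColimit (D ⋙ P)
  let φ : colimit (D ⋙ P) ⟶ P.obj c.pt := colimit.desc (D ⋙ P) (P.mapCocone c)
  have hι : ∀ (j : α) (V : Y.Opens) (t : Γ(P.obj (D.obj j), V)),
      φ.app V ((colimit.ι (D ⋙ P) j).app V t) = (c.ι.app j).app (f ⁻¹ᵁ V) t := fun j V t =>
    congrArg (fun q => q.app V t) (colimit.ι_desc (P.mapCocone c) j)
  haveI : IsIso φ := by
    refine isIso_of_bijective_affines φ fun V => ⟨?_, fun t => ?_⟩
    · rw [injective_iff_map_eq_zero]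
      intro z hz
      obtain ⟨j, t, rfl⟩ := exists_stage_qs hd V.2.isCompact V.2.isQuasiSeparated z
      have h0 : (c.ι.app j).app (f ⁻¹ᵁ V.1) t = (c.ι.app j).app (f ⁻¹ᵁ V.1) 0 := by
        rw [map_zero]
        exact (hι j V.1 t).symm.trans hz
      obtain ⟨k, hk, e⟩ := exists_eq_stage hc
        (f.isCompact_preimage V.2.isCompact) (i := j) t 0 h0
      rw [map_zero] at e
      rw [← ι_map_app (colimit.cocone (D ⋙ P)) hk V.1 t]
      exact (congrArg ((colimit.ι (D ⋙ P) k).app V.1) e).trans (map_zero _)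
    · obtain ⟨j, a, ha⟩ := exists_stage_qs hc
        (V := f ⁻¹ᵁ V.1) (f.isCompact_preimage V.2.isCompact) (f.isQuasiSeparated_preimage V.2.isQuasiSeparated) t
      exact ⟨(colimit.ι (D ⋙ P) j).app V.1 a, (hι j V.1 a).trans ha⟩
  exact ⟨@IsColimit.ofPointIso _ _ _ _ _ _ (P.mapCocone c) hd ‹IsIso φ›⟩

/-- `dirImg` preserves the colimits which the direct image of modules preserves. -/
theorem preservesColimitsOfShape_dirImg (f : X ⟶ Y) [QuasiCompact f] [QuasiSeparated f] (I : Type u) [SmallCategory I]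
    (h : PreservesColimitsOfShape I (Scheme.Modules.pushforward f)) :
    PreservesColimitsOfShape I (AMod.dirImg f) := by
  haveI : PreservesColimitsOfShape I (AMod.dirImg f ⋙ AMod.toOS (RelSpec.QCAlg.directImage f)) := h
  haveI : PreservesColimitsOfSize.{u, u} (AMod.toOS (RelSpec.QCAlg.directImage f)) :=
    SiteBase.preservesColimitsOfSize_restrictScalars _
  haveI : (AMod.toOS (RelSpec.QCAlg.directImage f)).ReflectsIsomorphisms :=
    SiteBase.reflectsIsomorphisms_restrictScalars _
  haveI : ReflectsColimitsOfShape I (AMod.toOS (RelSpec.QCAlg.directImage f)) :=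
    reflectsColimitsOfShape_of_reflectsIsomorphisms
  exact preservesColimitsOfShape_of_reflects_of_preserves _ (AMod.toOS (RelSpec.QCAlg.directImage f))

end Groth.Agent.AModX
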