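import Groth.Agent.AModX.Exact
import Groth.Agent.QCoh.PullbackBC
import Groth.Agent.QCoh.Tilde
import Groth.Agent.SiteBase.ModColim

/-!
Every quasi-coherent module over the direct image algebra of an affine morphism is a direct image.
-/

universe u

set_option backward.isDefEq.respectTransparency false
set_option backward.isDefEq.respectTransparency.types false

open CategoryTheory CategoryTheory.Limits AlgebraicGeometry TopologicalSpace Opposite

noncomputable section

namespace Groth.Agent.AModX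

variable {X S : Scheme.{u}} {f : X ⟶ S} [IsAffineHom f]

/-- A map of modules over an algebra from maps of sections over affine opens. -/
theorem amod_exists_hom_of_affines {B : RelSpec.QCAlg S} {Z Z' : AMod B}
    (α : ∀ U : S.affineOpens, Z.val.obj (op U.1) ⟶ Z'.val.obj (op U.1))
    (h : ∀ (U V : S.affineOpens) (e : V.1 ≤ U.1) (z : Z.val.obj (op U.1)),
      α V (Z.val.map (homOfLE e).op z) = Z'.val.map (homOfLE e).op (α U z)) :
    ∃ φ : Z ⟶ Z', ∀ (U : S.affineOpens) (z : Z.val.obj (op U.1)), φ.val.app (op U.1) z = α U z := by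
  let B₀ : S.affineOpens → S.Opens := fun V => V.1
  have hB : Opens.IsBasis (Set.range B₀) := by
    have : Set.range B₀ = S.affineOpens := Subtype.range_coe
    rw [this]
    exact S.isBasis_affineOpens
  let a : (inducedFunctor B₀).op ⋙ Z.val.presheaf ⟶ (inducedFunctor B₀).op ⋙ Z'.val.presheaf :=
    { app := fun V => AddCommGrpCat.ofHom (α V.unop).hom.toAddMonoidHom
      naturality := fun V W g => by
        ext z
        exact h V.unop W.unop g.unop.hom.le z }
  let ψ : Z.val.presheaf ⟶ Z'.val.presheaf :=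
    TopCat.Sheaf.restrictHomEquivHom Z.val.presheaf ⟨Z'.val.presheaf, Z'.isSheaf⟩ hB a
  have hψ : ∀ (V : S.affineOpens) (z : Z.val.obj (op V.1)), ψ.app (op V.1) z = α V z := fun V z =>
    congrArg (fun q => q z)
      (TopCat.Sheaf.extend_hom_app Z.val.presheaf ⟨Z'.val.presheaf, Z'.isSheaf⟩ hB a V)
  have nat : ∀ {U V : S.Opens} (e : V ≤ U) (z : Z.val.obj (op U)),
      ψ.app (op V) (Z.val.map (homOfLE e).op z) = Z'.val.map (homOfLE e).op (ψ.app (op U) z) :=
    fun {U V} e z => congrArg (fun q => q z) (ψ.naturality (homOfLE e).op)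
  have hlin : ∀ (U : S.Opens) (r : B.presheaf.obj (op U)) (z : Z.val.obj (op U)),
      ψ.app (op U) (@HSMul.hSMul ((AMod.ringSheaf B).obj.obj (op U)) _ _ _ r z) =
        @HSMul.hSMul ((AMod.ringSheaf B).obj.obj (op U)) (Z'.val.obj (op U)) _ _ r (ψ.app (op U) z) := by
    intro U r z
    refine amod_eq_of_locally Z' _ _ fun p hp => ?_
    obtain ⟨_, ⟨V, hV, rfl⟩, hpV, hVU⟩ := S.isBasis_affineOpens.exists_subset_of_mem_open hp U.2
    refine ⟨V, hVU, hpV, ?_⟩
    refine (nat hVU _).symm.trans ?_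
    refine (congrArg _ (Z.val.map_smul (homOfLE hVU).op r z)).trans ((hψ ⟨V, hV⟩ _).trans ?_)
    refine ((α ⟨V, hV⟩).hom.map_smul _ _).trans ?_
    refine Eq.trans ?_ (Z'.val.map_smul (homOfLE hVU).op r _).symm
    exact congrArg (_ • ·) ((hψ ⟨V, hV⟩ _).symm.trans (nat hVU z))
  exact ⟨⟨PresheafOfModules.homMk ψ (fun U r z => hlin U.unop r z)⟩, hψ⟩

variable (N : S.Modules)

/-- The unit on sections. -/
def eta (U : S.Opens) (x : Γ(N, U)) : Γ((Scheme.Modules.pullback f).obj N, f ⁻¹ᵁ U) :=
  ((Scheme.Modules.pullbackPushforwardAdjunction f).unit.app N).app U x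

lemma eta_res {U V : S.Opens} (e : V ≤ U) (x : Γ(N, U)) :
    eta (f := f) N V (N.presheaf.map (homOfLE e).op x) =
      res _ (f.preimage_mono e) (eta (f := f) N U x) :=
  QCoh.map_app_comm _ (homOfLE e) x

lemma eta_smul (U : S.Opens) (r : Γ(S, U)) (x : Γ(N, U)) :
    eta (f := f) N U (r • x) = f.app U r • eta (f := f) N U x :=
  Scheme.Modules.Hom.app_smul _ _ _

lemma pullSec_eq_eta {U : S.Opens} (x : Γ(N, U)) : QCoh.pullSec f N (le_refl (f ⁻¹ᵁ U)) x = eta N U x :=
  QCoh.map_id' _ _

/-- Sections of the inverse image over the inverse image of an affine are generated by the unit. -/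
theorem pullback_induction (hN : Coh.IsQCoh N) {U : S.Opens} (hU : IsAffineOpen U)
    {P : Γ((Scheme.Modules.pullback f).obj N, f ⁻¹ᵁ U) → Prop}
    (h0 : P 0) (heta : ∀ x, P (eta N U x)) (hsmul : ∀ (b : Γ(X, f ⁻¹ᵁ U)) y, P y → P (b • y))
    (hadd : ∀ y z, P y → P z → P (y + z)) (y : Γ((Scheme.Modules.pullback f).obj N, f ⁻¹ᵁ U)) : P y := by
  letI := (f.app U).hom.toAlgebra
  letI : Module Γ(S, U) Γ((Scheme.Modules.pullback f).obj N, f ⁻¹ᵁ U) := Module.compHom _ (f.app U).hom
  have : IsScalarTower Γ(S, U) Γ(X, f ⁻¹ᵁ U) Γ((Scheme.Modules.pullback f).obj N, f ⁻¹ᵁ U) :=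
    IsScalarTower.of_algebraMap_smul fun r z => rfl
  let l : Γ(N, U) →ₗ[Γ(S, U)] Γ((Scheme.Modules.pullback f).obj N, f ⁻¹ᵁ U) :=
    { toFun := eta N U, map_add' := map_add _, map_smul' := eta_smul N U }
  exact (QCoh.isBaseChange_pullback hU f (hU.preimage f) hN le_rfl
    (fun r => by rw [← f.app_eq_appLE]; rfl) l fun x => (pullSec_eq_eta N x).symm).inductionOn y P h0 heta hsmul hadd

variable {N}

/-- The action map on an affine open. -/
theorem exists_act {M : AMod (RelSpec.QCAlg.directImage f)}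
    (hM : Coh.IsQCoh ((AMod.toOS (RelSpec.QCAlg.directImage f)).obj M)) {U : S.Opens} (hU : IsAffineOpen U) :
    ∃ μ : ((AMod.dirImg f).obj ((Scheme.Modules.pullback f).obj ((AMod.toOS _).obj M))).val.obj (op U) ⟶
        M.val.obj (op U),
      ∀ x : Γ((AMod.toOS _).obj M, U), μ (eta ((AMod.toOS _).obj M) U x) = x := by
  let N := (AMod.toOS (RelSpec.QCAlg.directImage f)).obj M
  letI := (f.app U).hom.toAlgebra
  letI : Module Γ(S, U) Γ((Scheme.Modules.pullback f).obj N, f ⁻¹ᵁ U) := Module.compHom _ (f.app U).hom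
  have : IsScalarTower Γ(S, U) Γ(X, f ⁻¹ᵁ U) Γ((Scheme.Modules.pullback f).obj N, f ⁻¹ᵁ U) :=
    IsScalarTower.of_algebraMap_smul fun r z => rfl
  letI : Module Γ(X, f ⁻¹ᵁ U) Γ(N, U) := (M.val.obj (op U)).isModule
  have : IsScalarTower Γ(S, U) Γ(X, f ⁻¹ᵁ U) Γ(N, U) :=
    IsScalarTower.of_algebraMap_smul fun r z => rfl
  let l : Γ(N, U) →ₗ[Γ(S, U)] Γ((Scheme.Modules.pullback f).obj N, f ⁻¹ᵁ U) :=
    { toFun := eta N U, map_add' := map_add _, map_smul' := eta_smul N U }
  have hbc := QCoh.isBaseChange_pullback hU f (hU.preimage f) hM le_rfl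
    (fun r => by rw [← f.app_eq_appLE]; rfl) l fun x => (pullSec_eq_eta N x).symm
  let L := hbc.lift (LinearMap.id : Γ(N, U) →ₗ[Γ(S, U)] Γ(N, U))
  exact ⟨ConcreteCategory.ofHom (C := ModuleCat.{u} ((AMod.ringSheaf (RelSpec.QCAlg.directImage f)).obj.obj (op U)))
      (Y := M.val.obj (op U))
      (X := ((AMod.dirImg f).obj ((Scheme.Modules.pullback f).obj N)).val.obj (op U))
      { toFun := L, map_add' := L.map_add, map_smul' := L.map_smul },
    fun x => hbc.lift_eq (LinearMap.id : Γ(N, U) →ₗ[Γ(S, U)] Γ(N, U)) x⟩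

/-- Every quasi-coherent module over the direct image algebra is a quotient of a direct image. -/
theorem exists_epi_dirImg {M : AMod (RelSpec.QCAlg.directImage f)}
    (hM : Coh.IsQCoh ((AMod.toOS (RelSpec.QCAlg.directImage f)).obj M)) :
    ∃ (G : X.Modules) (π : (AMod.dirImg f).obj G ⟶ M), Coh.IsQCoh G ∧ Epi π := by
  let N := (AMod.toOS (RelSpec.QCAlg.directImage f)).obj M
  choose μ hμ using fun U : S.affineOpens => exists_act hM U.2
  obtain ⟨π, hπ⟩ := amod_exists_hom_of_affines μ fun U V e z => by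
    refine pullback_induction N hM U.2
      (P := fun z => μ V (((AMod.dirImg f).obj _).val.map (homOfLE e).op z) = M.val.map (homOfLE e).op (μ U z))
      ?_ (fun x => ?_) (fun b y hy => ?_) (fun y y' hy hy' => ?_) z
    · exact (congrArg (μ V) (map_zero (((AMod.dirImg f).obj _).val.map (homOfLE e).op).hom)).trans
        ((map_zero (μ V).hom).trans ((congrArg (M.val.map (homOfLE e).op) (map_zero (μ U).hom)).trans
          (map_zero (M.val.map (homOfLE e).op).hom)).symm)
    · refine (congrArg (μ V) (eta_res (f := f) N e x).symm).trans ((hμ V _).trans ?_)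
      exact congrArg (M.val.map (homOfLE e).op) (hμ U x).symm
    · refine (congrArg (μ V) (((AMod.dirImg f).obj _).val.map_smul (homOfLE e).op b y)).trans ?_
      refine ((μ V).hom.map_smul _ _).trans ?_
      refine (congrArg (_ • ·) hy).trans ?_
      exact ((congrArg (M.val.map (homOfLE e).op) ((μ U).hom.map_smul b y)).trans
        (M.val.map_smul (homOfLE e).op b _)).symm
    · refine (congrArg (μ V) ((((AMod.dirImg f).obj _).val.map (homOfLE e).op).hom.map_add y y')).trans ?_
      refine ((μ V).hom.map_add _ _).trans ?_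
      refine (congrArg₂ (· + ·) hy hy').trans ?_
      exact ((congrArg (M.val.map (homOfLE e).op) ((μ U).hom.map_add y y')).trans
        ((M.val.map (homOfLE e).op).hom.map_add _ _)).symm
  refine ⟨_, π, QCoh.isQCoh_pullback f hM, ⟨fun {Z} g g' e => ?_⟩⟩
  refine SheafOfModules.Hom.ext (PresheafOfModules.hom_ext fun V => ?_)
  ext y
  refine amod_eq_of_locally Z _ _ fun p hp => ?_
  obtain ⟨_, ⟨U, hU, rfl⟩, hpU, hUV⟩ := S.isBasis_affineOpens.exists_subset_of_mem_open
    (show p ∈ (V.unop : Set S) from hp) V.unop.isOpen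
  have hUV' : U ≤ V.unop := hUV
  refine ⟨U, hUV', hpU, ?_⟩
  rw [← PresheafOfModules.naturality_apply g.val (homOfLE hUV').op y,
    ← PresheafOfModules.naturality_apply g'.val (homOfLE hUV').op y]
  set y' := M.val.map (homOfLE hUV').op y
  have hy : π.val.app (op U) (eta N U y') = y' := (hπ ⟨U, hU⟩ _).trans (hμ ⟨U, hU⟩ y')
  erw [← hy]
  exact ConcreteCategory.congr_hom (congrArg (fun m : _ ⟶ Z => m.val.app (op U)) e) (eta N U y')

omit [IsAffineHom f] in
lemma preservesLimits_dirImg [QuasiCompact f] [QuasiSeparated f] :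
    PreservesLimitsOfSize.{0, 0} (AMod.dirImg f) := by
  have : PreservesLimitsOfSize.{0, 0} (AMod.dirImg f ⋙ AMod.toOS (RelSpec.QCAlg.directImage f)) :=
    (Scheme.Modules.pullbackPushforwardAdjunction f).rightAdjoint_preservesLimits
  have : PreservesLimitsOfSize.{u, u} (AMod.toOS (RelSpec.QCAlg.directImage f)) :=
    SiteBase.preservesLimitsOfSize_restrictScalars _
  have : PreservesLimitsOfSize.{0, 0} (AMod.toOS (RelSpec.QCAlg.directImage f)) :=
    preservesSmallestLimits_of_preservesLimits _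
  have : (AMod.toOS (RelSpec.QCAlg.directImage f)).ReflectsIsomorphisms :=
    SiteBase.reflectsIsomorphisms_restrictScalars _
  have : ReflectsLimitsOfSize.{0, 0} (AMod.toOS (RelSpec.QCAlg.directImage f)) :=
    reflectsLimits_of_reflectsIsomorphisms
  exact preservesLimits_of_reflects_of_preserves _ (AMod.toOS (RelSpec.QCAlg.directImage f))

/-- Every quasi-coherent module over the direct image algebra of an affine morphism is a direct image. -/
theorem exists_iso_dirImg (M : AMod (RelSpec.QCAlg.directImage f))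
    (hM : Coh.IsQCoh ((AMod.toOS (RelSpec.QCAlg.directImage f)).obj M)) :
    ∃ F : X.Modules, Coh.IsQCoh F ∧ Nonempty ((AMod.dirImg f).obj F ≅ M) := by
  obtain ⟨G, π, hG, hπ⟩ := exists_epi_dirImg hM
  have hK : Coh.IsQCoh ((AMod.toOS (RelSpec.QCAlg.directImage f)).obj (kernel π)) := by
    let R := AMod.toOS (RelSpec.QCAlg.directImage f)
    have : PreservesLimitsOfSize.{u, u} R := SiteBase.preservesLimitsOfSize_restrictScalars _
    have : PreservesLimitsOfSize.{0, 0} R := preservesSmallestLimits_of_preservesLimits _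
    have : R.PreservesZeroMorphisms := ⟨fun _ _ => rfl⟩
    refine (SheafOfModules.isQuasicoherent S.ringCatSheaf).prop_of_iso (PreservesKernel.iso R π).symm ?_
    exact QCoh.isQCoh_kernel (QCoh.isQCoh_pushforward f hG) hM (R.map π)
  obtain ⟨G₁, π₁, hG₁, hπ₁⟩ := exists_epi_dirImg hK
  obtain ⟨v, hv⟩ := (dirImg_map_bijective (f := f) hG₁).2 (π₁ ≫ kernel.ι π)
  let p := cokernel.π v
  have hF : Coh.IsQCoh (cokernel v) := QCoh.isQCoh_cokernel hG₁ hG v
  refine ⟨cokernel v, hF, ?_⟩
  have : PreservesLimitsOfSize.{0, 0} (AMod.dirImg f) := preservesLimits_dirImg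
  have : (AMod.dirImg f).PreservesZeroMorphisms := ⟨fun _ _ => rfl⟩
  have : Epi ((AMod.dirImg f).map p) := dirImg_map_epi hG hF p
  have : Epi ((AMod.dirImg f).map (Abelian.factorThruImage v)) :=
    dirImg_map_epi hG₁ (QCoh.isQCoh_kernel hG hF p) _
  let c₁ := Abelian.epiIsCokernelOfKernel (KernelFork.ofι _ (kernel.condition π)) (kernelIsKernel π)
  let hker : IsLimit (KernelFork.ofι ((AMod.dirImg f).map (kernel.ι p))
      (by rw [← Functor.map_comp, kernel.condition, (AMod.dirImg f).map_zero] :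
        (AMod.dirImg f).map (kernel.ι p) ≫ (AMod.dirImg f).map p = 0)) :=
    isLimitForkMapOfIsLimit' _ (kernel.condition p) (kernelIsKernel p)
  let c₂ := Abelian.epiIsCokernelOfKernel _ hker
  have e1 : (AMod.dirImg f).map (kernel.ι p) ≫ π = 0 := by
    rw [← cancel_epi ((AMod.dirImg f).map (Abelian.factorThruImage v)), ← Category.assoc,
      ← Functor.map_comp]
    rw [show Abelian.factorThruImage v ≫ kernel.ι p = v from Abelian.image.fac v, hv, Category.assoc,
      kernel.condition, comp_zero, comp_zero]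
  have e2 : kernel.ι π ≫ (AMod.dirImg f).map p = 0 := by
    rw [← cancel_epi π₁, ← Category.assoc, ← hv, ← Functor.map_comp, cokernel.condition,
      (AMod.dirImg f).map_zero, comp_zero]
  obtain ⟨a, ha⟩ := CokernelCofork.IsColimit.desc' c₂ π e1
  obtain ⟨b, hb⟩ := CokernelCofork.IsColimit.desc' c₁ ((AMod.dirImg f).map p) e2
  have ha' : (AMod.dirImg f).map p ≫ a = π := ha
  have hb' : π ≫ b = (AMod.dirImg f).map p := hb
  exact ⟨{ hom := a, inv := b
           hom_inv_id := by
             rw [← cancel_epi ((AMod.dirImg f).map p), ← Category.assoc, ha', hb', Category.comp_id]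
           inv_hom_id := by rw [← cancel_epi π, ← Category.assoc, hb', ha', Category.comp_id] }⟩

end Groth.Agent.AModX
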