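import Groth.Agent.AModX.Exact
import Groth.Agent.QCoh.FT
import Groth.Agent.QCoh.PullbackBC

/-!
Finite type of a quasi-coherent module and of its direct image by an affine morphism.
-/

universe u

set_option backward.isDefEq.respectTransparency false
set_option backward.isDefEq.respectTransparency.types false

open CategoryTheory CategoryTheory.Limits AlgebraicGeometry TopologicalSpace Opposite

noncomputable section

namespace Groth.Agent.AModX

variable {X S : Scheme.{u}}

/-- Separatedness of a sheaf of modules on the opens below `U`. -/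
theorem over_eq_of_locally {R : TopCat.Sheaf RingCat.{u} S.carrier} {U : S.Opens}
    (Z : SheafOfModules.{u} (Sheaf.over R U)) (W : Over U) (x y : Z.val.obj (op W))
    (h : ∀ p ∈ W.left, ∃ (Y : Over U) (g : Y ⟶ W), p ∈ Y.left ∧ Z.val.map g.op x = Z.val.map g.op y) :
    x = y := by
  let Sv : Sieve W :=
    { arrows := fun Y g => Z.val.map g.op x = Z.val.map g.op y
      downward_closed := fun {Y Y'} g hg g' => by
        rw [op_comp]
        exact (Z.val.map_comp_apply g.op g'.op x).trans ((congrArg (Z.val.map g'.op) hg).trans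
          (Z.val.map_comp_apply g.op g'.op y).symm) }
  refine (Presheaf.IsSheaf.isSeparated (J := (Opens.grothendieckTopology S).over U) Z.isSheaf)
    W Sv ?_ x y fun Y g hg => hg
  rw [GrothendieckTopology.mem_over_iff]
  intro p hp
  obtain ⟨Y, g, hpY, hg⟩ := h p hp
  exact ⟨Y.left, g.left, (Sieve.overEquiv_iff _ _).2 (show Sv.arrows (Over.homMk g.left) from by
    have : (Over.homMk g.left : Over.mk (g.left ≫ W.hom) ⟶ W) =
        (Over.isoMk (Iso.refl Y.left) (by simp) : Over.mk (g.left ≫ W.hom) ≅ Y).hom ≫ g := by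
      ext
      exact Subsingleton.elim _ _
    rw [this]
    exact Sv.downward_closed hg _), hpY⟩

variable {f : X ⟶ S} [IsAffineHom f] {F : X.Modules}

/-- A quasi-coherent module is generated over the inverse image of a basic open by the generators. -/
theorem app_eq_zero_of_span (hF : Coh.IsQCoh F) {U : S.Opens} (hU : IsAffineOpen U) {r : Γ(S, U)}
    {T : Set Γ(F, f ⁻¹ᵁ U)} (hT : Submodule.span Γ(X, f ⁻¹ᵁ U) T = ⊤)
    {A : Type*} [AddCommGroup A] [Module Γ(X, f ⁻¹ᵁ S.basicOpen r) A]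
    (φ : Γ(F, f ⁻¹ᵁ S.basicOpen r) →ₗ[Γ(X, f ⁻¹ᵁ S.basicOpen r)] A)
    (h : ∀ t ∈ T, φ (res F (f.preimage_mono (S.basicOpen_le r)) t) = 0) (y : Γ(F, f ⁻¹ᵁ S.basicOpen r)) :
    φ y = 0 := by
  have hle : f ⁻¹ᵁ S.basicOpen r ≤ f ⁻¹ᵁ U := f.preimage_mono (S.basicOpen_le r)
  have key : ∀ z : Γ(F, f ⁻¹ᵁ U), φ (res F hle z) = 0 := fun z => by
    induction (show z ∈ Submodule.span Γ(X, f ⁻¹ᵁ U) T from hT ▸ Submodule.mem_top) using Submodule.span_induction with
    | mem t ht => exact h t ht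
    | zero => rw [map_zero, map_zero]
    | add a b _ _ ha hb => rw [map_add, map_add, ha, hb, add_zero]
    | smul c a _ ha => rw [res_smul, φ.map_smul, ha, smul_zero]
  have hD : f ⁻¹ᵁ S.basicOpen r = X.basicOpen (f.app U r) := Scheme.preimage_basicOpen f r
  have hex : ∀ (D : X.Opens) (_ : X.basicOpen (f.app U r) = D) (hle : D ≤ f ⁻¹ᵁ U) (y : Γ(F, D)),
      ∃ (n : ℕ) (t : Γ(F, f ⁻¹ᵁ U)), res F hle t = resR hle (f.app U r) ^ n • y := by
    rintro _ rfl hle y
    exact QCoh.exists_pow_smul_eq_map hF (hU.preimage f) _ y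
  obtain ⟨n, t, ht⟩ := hex _ hD.symm hle y
  have hu : IsUnit (resR hle (f.app U r) ^ n) := (isUnit_resR hle _ hD.le).pow n
  refine hu.smul_left_cancel.mp ?_
  rw [smul_zero, ← φ.map_smul, ← ht, key]

/-- The direct image of a finite type module is of finite type over the direct image algebra. -/
theorem isFiniteType_dirImg (hF : Coh.IsQCoh F) (h : CohB1.IsFT F) :
    SheafOfModules.IsFiniteType.{u} (R := AMod.ringSheaf (RelSpec.QCAlg.directImage f)) ((AMod.dirImg f).obj F) := by
  have hT : ∀ U : S.affineOpens, ∃ T : Finset Γ(F, f ⁻¹ᵁ U.1),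
      Submodule.span Γ(X, f ⁻¹ᵁ U.1) (T : Set Γ(F, f ⁻¹ᵁ U.1)) = ⊤ := fun U =>
    (QCoh.finite_of_isFT hF h (U.2.preimage f)).fg_top
  choose T hT using hT
  let M := (AMod.dirImg f).obj F
  let s : ∀ U : S.affineOpens, ↥(T U) → (SheafOfModules.over M U.1).sections := fun U t =>
    PresheafOfModules.sectionsMk (fun W => M.val.map W.unop.hom.op t.1) fun W W' g => by
      refine (M.val.map_comp_apply W.unop.hom.op g.unop.left.op t.1).symm.trans ?_
      rw [Subsingleton.elim (W.unop.hom.op ≫ g.unop.left.op) W'.unop.hom.op]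
  have hepi : ∀ U, Epi ((SheafOfModules.over M U.1).freeHomEquiv.symm (s U)) := fun U => by
    refine Preadditive.epi_of_cancel_zero _ fun {Z} g hg => ?_
    rw [SheafOfModules.freeHomEquiv_symm_comp, Equiv.symm_apply_eq] at hg
    refine SheafOfModules.Hom.ext (PresheafOfModules.hom_ext fun W => ?_)
    ext y
    refine over_eq_of_locally Z W.unop _ _ fun p hp => ?_
    obtain ⟨r, hr, hpr⟩ := U.2.exists_basicOpen_le ⟨p, hp⟩ (W.unop.hom.le hp)
    let Y : Over U.1 := Over.mk (homOfLE (S.basicOpen_le r))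
    let g' : Y ⟶ W.unop := Over.homMk (homOfLE hr)
    refine ⟨Y, g', hpr, ?_⟩
    refine (PresheafOfModules.naturality_apply g.val g'.op y).symm.trans (Eq.trans ?_ (map_zero (Z.val.map g'.op).hom).symm)
    letI : Module Γ(X, f ⁻¹ᵁ S.basicOpen r) (Z.val.obj (op Y)) := (Z.val.obj (op Y)).isModule
    refine app_eq_zero_of_span hF U.2 (hT U)
      { toFun := fun z => g.val.app (op Y) z
        map_add' := fun a b => (g.val.app (op Y)).hom.map_add a b
        map_smul' := fun a b => (g.val.app (op Y)).hom.map_smul a b } (fun t ht => ?_) _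
    exact congrArg (fun σ : Z.sections => PresheafOfModules.sections.eval σ (op Y)) (congrFun hg ⟨t, ht⟩)
  let q : SheafOfModules.LocalGeneratorsData.{u} (R := AMod.ringSheaf (RelSpec.QCAlg.directImage f)) M :=
    { I := S.affineOpens
      X := fun U => U.1
      coversTop := (Opens.coversTop_iff _ _).2 (iSup_affineOpens_eq_top S)
      generators := fun U => { I := ↥(T U), s := s U, epi := hepi U } }
  have hq : q.IsFiniteType := by
    constructor
    exact fun U => ⟨inferInstanceAs (Finite ↥(T U))⟩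
  constructor
  exact ⟨q, hq⟩

/-- A map into a module pushed from a chart, from a map of sections over the chart. -/
theorem exists_toPush (hF : Coh.IsQCoh F) {W : X.Opens} (hW : IsAffineOpen W)
    (Q : Type u) [AddCommGroup Q] [Module Γ(X, W) Q]
    (q : (moduleSpecΓFunctor (R := Γ(X, W))).obj (F.restrict hW.fromSpec) →ₗ[Γ(X, W)] Q) :
    ∃ (C : X.Modules) (v : F ⟶ C), ∀ (V : X.Opens) (hle : W ≤ V) (z : Γ(F, V)),
      v.app V z = 0 ↔ q (QCoh.chartEquiv hW F (res F hle z)) = 0 := by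
  let P : (Spec Γ(X, W)).Modules := tilde (R := Γ(X, W)) (ModuleCat.of Γ(X, W) Q)
  obtain ⟨ψ, hψ⟩ := (QCoh.bijective_ΓMap (R := Γ(X, W)) (QCoh.isQCoh_restrict hW.fromSpec hF) P).2
    (ConcreteCategory.ofHom (C := ModuleCat.{u} Γ(X, W))
      (X := (moduleSpecΓFunctor (R := Γ(X, W))).obj (F.restrict hW.fromSpec))
      (Y := ModuleCat.of Γ(X, W) Q) q ≫ (tilde.isoTop (R := Γ(X, W)) (ModuleCat.of Γ(X, W) Q)).hom)
  refine ⟨(Scheme.Modules.pushforward hW.fromSpec).obj P,
    (Scheme.Modules.restrictAdjunction hW.fromSpec).homEquiv F P ψ, fun V hle z => ?_⟩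
  let A : (Spec Γ(X, W)).Opens := hW.fromSpec ⁻¹ᵁ V
  have hA : A = ⊤ := top_le_iff.mp fun x _ => hle (by
    have : hW.fromSpec x ∈ hW.fromSpec.opensRange := ⟨x, rfl⟩
    rwa [hW.opensRange_fromSpec] at this)
  let zA : Γ(F, hW.fromSpec ''ᵁ A) :=
    F.presheaf.map (homOfLE (hW.fromSpec.image_preimage_le V)).op z
  show (show Γ(P, A) from ψ.app A zA) = 0 ↔ _
  have e : P.presheaf.map (eqToHom hA.symm).op (show Γ(P, A) from ψ.app A zA) =
      ψ.app ⊤ (QCoh.toChart hW F (res F hle z)) := by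
    refine (QCoh.map_app_comm (M := F.restrict hW.fromSpec) ψ _ _).symm.trans (congrArg (ψ.app ⊤) ?_)
    show F.presheaf.map _ (F.presheaf.map _ z) = F.presheaf.map _ (F.presheaf.map _ z)
    refine (QCoh.map_map (M := F) _ _ _).trans (Eq.trans ?_ (QCoh.map_map (M := F) _ _ _).symm)
    rfl
  have e' : (show moduleSpecΓFunctor.obj P from ψ.app ⊤ (QCoh.toChart hW F (res F hle z))) =
      (tilde.isoTop (R := Γ(X, W)) (ModuleCat.of Γ(X, W) Q)).hom (q (QCoh.chartEquiv hW F (res F hle z))) :=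
    ConcreteCategory.congr_hom (show moduleSpecΓFunctor.map ψ = _ from hψ) _
  have inj1 : Function.Injective (P.presheaf.map (eqToHom hA.symm).op) :=
    (ConcreteCategory.bijective_of_isIso _).1
  have inj2 : Function.Injective (tilde.isoTop (R := Γ(X, W)) (ModuleCat.of Γ(X, W) Q)).hom := (ConcreteCategory.bijective_of_isIso _).1
  constructor
  · intro h0
    refine inj2 (e'.symm.trans ?_)
    rw [map_zero]
    exact e.symm.trans ((congrArg (P.presheaf.map (eqToHom hA.symm).op) h0).trans (map_zero _))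
  · intro h0
    refine inj1 (e.trans (Eq.trans ?_ (map_zero _).symm))
    exact e'.trans ((congrArg (tilde.isoTop (R := Γ(X, W)) (ModuleCat.of Γ(X, W) Q)).hom h0).trans (map_zero _))

/-- A quasi-coherent module with direct image of finite type is of finite type. -/
theorem isFT_of_isFiniteType_dirImg (hF : Coh.IsQCoh F)
    (h : SheafOfModules.IsFiniteType.{u} (R := AMod.ringSheaf (RelSpec.QCAlg.directImage f)) ((AMod.dirImg f).obj F)) :
    CohB1.IsFT F := by
  obtain ⟨σ, hσ⟩ := h.exists_localGeneratorsData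
  let K := Σ i : σ.I, {W : S.affineOpens // W.1 ≤ σ.X i}
  refine QCoh.isFT_of_finite hF (ι := K) (fun k => f ⁻¹ᵁ k.2.1.1) ?_ (fun k => k.2.1.2.preimage f) fun k => ?_
  · refine top_le_iff.1 fun x _ => Opens.mem_iSup.2 ?_
    obtain ⟨i, hi⟩ := Opens.mem_iSup.1
      (show f x ∈ iSup σ.X by rw [(Opens.coversTop_iff _ _).1 σ.coversTop]; trivial)
    obtain ⟨_, ⟨W, hW, rfl⟩, hxW, hle⟩ :=
      S.isBasis_affineOpens.exists_subset_of_mem_open hi (σ.X i).2
    exact ⟨⟨i, ⟨W, hW⟩, hle⟩, hxW⟩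
  obtain ⟨i, ⟨W₀, hW₀⟩, hle⟩ := k
  let G := σ.generators i
  have := hσ.isFiniteType i
  have hW : IsAffineOpen (f ⁻¹ᵁ W₀) := hW₀.preimage f
  have hle' : f ⁻¹ᵁ W₀ ≤ f ⁻¹ᵁ σ.X i := f.preimage_mono hle
  let gen : G.I → Γ(F, f ⁻¹ᵁ σ.X i) := fun j => (G.s j).eval (op (Over.mk (𝟙 (σ.X i))))
  let e := QCoh.chartEquiv hW F
  let N₀ := Submodule.span Γ(X, f ⁻¹ᵁ W₀) (Set.range fun j => e (res F hle' (gen j)))
  obtain ⟨C, v, hv⟩ := exists_toPush hF hW _ N₀.mkQ
  let g := (SheafOfModules.overFunctor (AMod.ringSheaf (RelSpec.QCAlg.directImage f)) (σ.X i)).map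
    ((AMod.dirImg f).map v)
  have hg : g = 0 := by
    rw [← cancel_epi G.π, comp_zero, SheafOfModules.freeHomEquiv_symm_comp, Equiv.symm_apply_eq]
    refine funext fun j => PresheafOfModules.sections_ext _ _ fun V => ?_
    have hz : v.app (f ⁻¹ᵁ σ.X i) (gen j) = 0 :=
      (hv _ hle' _).2 ((Submodule.Quotient.mk_eq_zero N₀).2 (Submodule.subset_span ⟨j, rfl⟩))
    refine (PresheafOfModules.sections_property (M := (SheafOfModules.over ((AMod.dirImg f).obj C) (σ.X i)).val)
      (SheafOfModules.sectionsMap g (G.s j))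
      (X := op (Over.mk (𝟙 (σ.X i)))) (Over.homMk V.unop.hom).op).symm.trans ?_
    exact (congrArg _ hz).trans (map_zero _)
  have hall : ∀ z : Γ(F, f ⁻¹ᵁ W₀), e z ∈ N₀ := fun z => by
    have h1 : v.app (f ⁻¹ᵁ W₀) z = 0 := congr($(hg).val.app (op (Over.mk (homOfLE hle))) z)
    have h2 := (hv _ le_rfl z).1 h1
    rw [res_self] at h2
    exact (Submodule.Quotient.mk_eq_zero N₀).1 h2
  haveI : Finite G.I := inferInstance
  have hfg : Module.Finite Γ(X, f ⁻¹ᵁ W₀) (moduleSpecΓFunctor.obj (F.restrict hW.fromSpec)) :=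
    ⟨⟨(Set.finite_range _).toFinset, by
      rw [Set.Finite.coe_toFinset]
      exact eq_top_iff.2 fun y _ => (e.apply_symm_apply y) ▸ hall (e.symm y)⟩⟩
  exact Module.Finite.equiv e.symm

end Groth.Agent.AModX
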